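import Groth.Prelude.Def_SpSeq

/-!
# Stationary positions and graded pieces
-/

set_option autoImplicit false
set_option linter.unusedSectionVars false

universe v u

open CategoryTheory CategoryTheory.Limits

namespace GrothLib.SpSeqBasic25

variable {C : Type u} [Category.{v} C] [Abelian C] {r₀ : ℤ} (E : CohomologicalSpectralSequence C r₀)

/-- A zero term stays zero. -/
theorem isZero_of_le {r : ℤ} (hr : r₀ ≤ r) (pq : ℤ × ℤ) (h : IsZero ((E.page r hr).X pq)) :
    ∀ (r' : ℤ) (hr' : r₀ ≤ r'), r ≤ r' → IsZero ((E.page r' hr').X pq) := by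
  intro r' hr' hle
  revert hr'
  induction r', hle using Int.le_induction with
  | base => exact fun _ => h
  | succ n hn ih =>
    intro _
    exact ((HomologicalComplex.exactAt_iff_isZero_homology _ _).1
      (ShortComplex.exact_of_isZero_X₂ _ (ih (hr.trans hn)))).of_iso
        (E.iso n (n + 1) pq rfl (hr.trans hn)).symm

/-- A page and the next one agree where both differentials vanish. -/
theorem nonempty_iso_succ (r : ℤ) (hr : r₀ ≤ r) (pq : ℤ × ℤ)
    (h₁ : (E.page r hr).d (pq - (r, 1 - r)) pq = 0) (h₂ : (E.page r hr).d pq (pq + (r, 1 - r)) = 0) :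
    Nonempty ((E.page r hr).X pq ≅ (E.page (r + 1) (by omega)).X pq) := by
  have hp : (ComplexShape.up' ((⟨r, 1 - r⟩ : ℤ × ℤ))).prev pq = pq - (r, 1 - r) :=
    ComplexShape.prev_eq' _ (sub_add_cancel pq (r, 1 - r))
  have hn : (ComplexShape.up' ((⟨r, 1 - r⟩ : ℤ × ℤ))).next pq = pq + (r, 1 - r) :=
    ComplexShape.next_eq' _ rfl
  refine ⟨((ShortComplex.HomologyData.ofZeros ((E.page r hr).sc pq) ?_ ?_).left.homologyIso).symm ≪≫
    E.iso r (r + 1) pq rfl hr⟩
  · change (E.page r hr).d _ pq = 0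
    rw [hp]
    exact h₁
  · change (E.page r hr).d pq _ = 0
    rw [hn]
    exact h₂

theorem nonempty_iso_of_stationary {r : ℤ} (pq : ℤ × ℤ) (hst : SpSeq.StationaryAt E pq r) :
    ∀ (r' : ℤ) (hr' : r₀ ≤ r'), r ≤ r' →
      Nonempty ((E.page r hst.1).X pq ≅ (E.page r' hr').X pq) := by
  intro r' hr' hle
  revert hr'
  induction r', hle using Int.le_induction with
  | base => exact fun _ => ⟨Iso.refl _⟩
  | succ n hn ih =>
    intro _
    obtain ⟨i⟩ := ih (hst.1.trans hn)
    obtain ⟨j⟩ := nonempty_iso_succ E n (hst.1.trans hn) pq (hst.2 n _ hn).1 (hst.2 n _ hn).2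
    exact ⟨i ≪≫ j⟩

theorem nonempty_iso_abutment {H : ℤ → C} (a : SpSeq.Abutment E H) {r : ℤ} (pq : ℤ × ℤ)
    (hst : SpSeq.StationaryAt E pq r) :
    Nonempty ((E.page (a.rk pq) (a.stat pq).1).X pq ≅ (E.page r hst.1).X pq) := by
  rcases le_total r (a.rk pq) with h | h
  · exact ⟨(nonempty_iso_of_stationary E pq hst _ _ h).some.symm⟩
  · exact nonempty_iso_of_stationary E pq (a.stat pq) _ _ h

variable {X : C} (F : ℤ → Subobject X) (hF : Antitone F)

theorem eq_of_isZero_grPiece (p : ℤ) (h : IsZero (SpSeq.grPiece F hF p)) : F (p + 1) = F p := by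
  let f := (F (p + 1)).ofLE (F p) (hF (Int.le_add_one le_rfl))
  haveI : Epi f := Abelian.epi_of_cokernel_π_eq_zero f (h.eq_of_tgt _ _)
  haveI : IsIso f := isIso_of_mono_of_epi f
  refine Subobject.eq_of_comm (asIso f) ?_
  exact Subobject.ofLE_arrow _

theorem nonempty_grPiece_iso_of_top_bot (p : ℤ) (ht : F p = ⊤) (hb : F (p + 1) = ⊥) :
    Nonempty (SpSeq.grPiece F hF p ≅ X) := by
  have h0 : (F (p + 1)).ofLE (F p) (hF (Int.le_add_one le_rfl)) = 0 := by
    rw [← cancel_mono (F p).arrow, zero_comp, Subobject.ofLE_arrow]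
    have : ∀ T : Subobject X, T = ⊥ → T.arrow = 0 := by rintro _ rfl; exact Subobject.bot_arrow
    exact this _ hb
  haveI : IsIso (F p).arrow := (Subobject.isIso_arrow_iff_eq_top _).2 ht
  exact ⟨cokernelIsoOfEq h0 ≪≫ cokernelZeroIsoTarget ≪≫ asIso (F p).arrow⟩

theorem nonempty_iso_of_single {H : ℤ → C} (a : SpSeq.Abutment E H)
    (r : ℤ) (hr : r₀ ≤ r) (q : ℤ → ℤ)
    (hdeg : ∀ m q' : ℤ, q' ≠ q m → IsZero ((E.page r hr).X (m - q', q')))
    (n : ℤ) (hdisc : (a.filObj n).IsDiscrete) (hexh : a.IsExhaustive n)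
    (hst : SpSeq.StationaryAt E (n - q n, q n) r) :
    Nonempty (H n ≅ (E.page r hr).X (n - q n, q n)) := by
  have hz : ∀ p : ℤ, p ≠ n - q n → IsZero (SpSeq.grPiece (a.fil n) (a.anti n) p) := by
    intro p hp
    have h := hdeg n (n - p) (by omega)
    rw [show n - (n - p) = p by omega] at h
    have h' : IsZero ((E.page (a.rk (p, n - p)) (a.stat (p, n - p)).1).X (p, n - p)) := by
      rcases le_total r (a.rk (p, n - p)) with hle | hle
      · exact isZero_of_le E hr _ h _ _ hle
      · exact h.of_iso (nonempty_iso_of_stationary E _ (a.stat (p, n - p)) r hr hle).some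
    have h'' := h'.of_iso (a.β (p, n - p)).symm
    have e : ∀ m : ℤ, m = n → IsZero (SpSeq.grPiece (a.fil m) (a.anti m) p) →
        IsZero (SpSeq.grPiece (a.fil n) (a.anti n) p) := by
      rintro _ rfl hh
      exact hh
    exact e _ (by change p + (n - p) = n; omega) h''
  obtain ⟨b, hb : a.fil n b = ⊥⟩ := hdisc
  have hstep : ∀ p, p ≠ n - q n → a.fil n (p + 1) = a.fil n p := fun p hp =>
    eq_of_isZero_grPiece _ (a.anti n) p (hz p hp)
  have hbot : a.fil n (n - q n + 1) = ⊥ := by
    have h1 : ∀ k, n - q n + 1 ≤ k → a.fil n k = a.fil n (n - q n + 1) := by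
      intro k hk
      induction k, hk using Int.le_induction with
      | base => rfl
      | succ m hm ih => rw [hstep m (by omega), ih]
    rcases le_total (n - q n + 1) b with hle | hle
    · rw [← h1 b hle, hb]
    · exact le_antisymm ((a.anti n hle).trans hb.le) bot_le
  have htop : a.fil n (n - q n) = ⊤ := by
    have h1 : ∀ k, k ≤ n - q n → a.fil n k = a.fil n (n - q n) := by
      intro k hk
      induction k, hk using Int.le_induction_down with
      | base => rfl
      | pred m hm ih =>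
        have h := hstep (m - 1) (by omega)
        rw [sub_add_cancel] at h
        rw [← h, ih]
    refine le_antisymm le_top (hexh.2 ?_)
    rintro _ ⟨k, rfl⟩
    rcases le_total k (n - q n) with hle | hle
    · exact (h1 k hle).le
    · exact a.anti n hle
  obtain ⟨i⟩ := nonempty_grPiece_iso_of_top_bot (a.fil n) (a.anti n) (n - q n) htop hbot
  obtain ⟨j⟩ := nonempty_iso_abutment E a (n - q n, q n) hst
  have e : ∀ m : ℤ, m = n → ∀ X : C, (X ≅ SpSeq.grPiece (a.fil m) (a.anti m) (n - q n)) →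
      Nonempty (X ≅ SpSeq.grPiece (a.fil n) (a.anti n) (n - q n)) := by
    rintro _ rfl X e
    exact ⟨e⟩
  obtain ⟨k⟩ := e _ (by change n - q n + q n = n; omega) _ (a.β (n - q n, q n))
  exact ⟨i.symm ≪≫ k.symm ≪≫ j⟩

end GrothLib.SpSeqBasic25
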